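import Cfsg.Agent.Lib.Cert.J3v.Q

set_option autoImplicit false
set_option maxRecDepth 100000

namespace Cfsg.Agent.Ct.J3v

open Cfsg.Agent.PC

theorem d0 : Nat.beq (rng f3 (nat_lit 0) (nat_lit 4096)) (nat_lit 0) = true := by decide +kernel
theorem d4096 : Nat.beq (rng f3 (nat_lit 4096) (nat_lit 4096)) (nat_lit 0) = true := by decide +kernel
theorem d8192 : Nat.beq (rng f3 (nat_lit 8192) (nat_lit 4096)) (nat_lit 0) = true := by decide +kernel
theorem d12288 : Nat.beq (rng f3 (nat_lit 12288) (nat_lit 4096)) (nat_lit 0) = true := by decide +kernel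
theorem d16384 : Nat.beq (rng f3 (nat_lit 16384) (nat_lit 4096)) (nat_lit 0) = true := by decide +kernel
theorem d20480 : Nat.beq (rng f3 (nat_lit 20480) (nat_lit 4096)) (nat_lit 0) = true := by decide +kernel
theorem d24576 : Nat.beq (rng f3 (nat_lit 24576) (nat_lit 4096)) (nat_lit 0) = true := by decide +kernel
theorem d28672 : Nat.beq (rng f3 (nat_lit 28672) (nat_lit 4096)) (nat_lit 0) = true := by decide +kernel

end Cfsg.Agent.Ct.J3v
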