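import Cfsg.Agent.Lib.Cert.J3v.Q

set_option autoImplicit false
set_option maxRecDepth 100000

namespace Cfsg.Agent.Ct.J3v

open Cfsg.Agent.PC

theorem d32768 : Nat.beq (rng f3 (nat_lit 32768) (nat_lit 4096)) (nat_lit 0) = true := by decide +kernel
theorem d36864 : Nat.beq (rng f3 (nat_lit 36864) (nat_lit 4096)) (nat_lit 0) = true := by decide +kernel
theorem d40960 : Nat.beq (rng f3 (nat_lit 40960) (nat_lit 4096)) (nat_lit 0) = true := by decide +kernel
theorem d45056 : Nat.beq (rng f3 (nat_lit 45056) (nat_lit 4096)) (nat_lit 0) = true := by decide +kernel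
theorem d49152 : Nat.beq (rng f3 (nat_lit 49152) (nat_lit 4096)) (nat_lit 0) = true := by decide +kernel
theorem d53248 : Nat.beq (rng f3 (nat_lit 53248) (nat_lit 4096)) (nat_lit 0) = true := by decide +kernel
theorem d57344 : Nat.beq (rng f3 (nat_lit 57344) (nat_lit 4096)) (nat_lit 0) = true := by decide +kernel
theorem d61440 : Nat.beq (rng f3 (nat_lit 61440) (nat_lit 4096)) (nat_lit 0) = true := by decide +kernel

end Cfsg.Agent.Ct.J3v
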