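import Cfsg.Agent.Lib.Cert.J3v.Q

set_option autoImplicit false
set_option maxRecDepth 100000

namespace Cfsg.Agent.Ct.J3v

open Cfsg.Agent.PC

theorem d131072 : Nat.beq (rng f3 (nat_lit 131072) (nat_lit 4096)) (nat_lit 0) = true := by decide +kernel
theorem d135168 : Nat.beq (rng f3 (nat_lit 135168) (nat_lit 4096)) (nat_lit 0) = true := by decide +kernel
theorem d139264 : Nat.beq (rng f3 (nat_lit 139264) (nat_lit 4096)) (nat_lit 0) = true := by decide +kernel
theorem d143360 : Nat.beq (rng f3 (nat_lit 143360) (nat_lit 4096)) (nat_lit 0) = true := by decide +kernel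
theorem d147456 : Nat.beq (rng f3 (nat_lit 147456) (nat_lit 4096)) (nat_lit 0) = true := by decide +kernel
theorem d151552 : Nat.beq (rng f3 (nat_lit 151552) (nat_lit 4096)) (nat_lit 0) = true := by decide +kernel
theorem d155648 : Nat.beq (rng f3 (nat_lit 155648) (nat_lit 4096)) (nat_lit 0) = true := by decide +kernel
theorem d159744 : Nat.beq (rng f3 (nat_lit 159744) (nat_lit 4096)) (nat_lit 0) = true := by decide +kernel

end Cfsg.Agent.Ct.J3v
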