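import Cfsg.Agent.Lib.Cert.J3v.Q

set_option autoImplicit false
set_option maxRecDepth 100000

namespace Cfsg.Agent.Ct.J3v

open Cfsg.Agent.PC

theorem d163840 : Nat.beq (rng f3 (nat_lit 163840) (nat_lit 4096)) (nat_lit 0) = true := by decide +kernel
theorem d167936 : Nat.beq (rng f3 (nat_lit 167936) (nat_lit 4096)) (nat_lit 0) = true := by decide +kernel
theorem d172032 : Nat.beq (rng f3 (nat_lit 172032) (nat_lit 4096)) (nat_lit 0) = true := by decide +kernel
theorem d176128 : Nat.beq (rng f3 (nat_lit 176128) (nat_lit 4096)) (nat_lit 0) = true := by decide +kernel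
theorem d180224 : Nat.beq (rng f3 (nat_lit 180224) (nat_lit 4096)) (nat_lit 0) = true := by decide +kernel
theorem d184320 : Nat.beq (rng f3 (nat_lit 184320) (nat_lit 4096)) (nat_lit 0) = true := by decide +kernel
theorem d188416 : Nat.beq (rng f3 (nat_lit 188416) (nat_lit 4096)) (nat_lit 0) = true := by decide +kernel
theorem d192512 : Nat.beq (rng f3 (nat_lit 192512) (nat_lit 4096)) (nat_lit 0) = true := by decide +kernel

end Cfsg.Agent.Ct.J3v
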