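import Cfsg.Agent.Lib.Cert.J3v.Q

set_option autoImplicit false
set_option maxRecDepth 100000

namespace Cfsg.Agent.Ct.J3v

open Cfsg.Agent.PC

theorem d229376 : Nat.beq (rng f3 (nat_lit 229376) (nat_lit 4096)) (nat_lit 0) = true := by decide +kernel
theorem d233472 : Nat.beq (rng f3 (nat_lit 233472) (nat_lit 4096)) (nat_lit 0) = true := by decide +kernel
theorem d237568 : Nat.beq (rng f3 (nat_lit 237568) (nat_lit 4096)) (nat_lit 0) = true := by decide +kernel
theorem d241664 : Nat.beq (rng f3 (nat_lit 241664) (nat_lit 4096)) (nat_lit 0) = true := by decide +kernel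
theorem d245760 : Nat.beq (rng f3 (nat_lit 245760) (nat_lit 4096)) (nat_lit 0) = true := by decide +kernel
theorem d249856 : Nat.beq (rng f3 (nat_lit 249856) (nat_lit 4096)) (nat_lit 0) = true := by decide +kernel
theorem d253952 : Nat.beq (rng f3 (nat_lit 253952) (nat_lit 4096)) (nat_lit 0) = true := by decide +kernel
theorem d258048 : Nat.beq (rng f3 (nat_lit 258048) (nat_lit 4096)) (nat_lit 0) = true := by decide +kernel

end Cfsg.Agent.Ct.J3v
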