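import Cfsg.Agent.Lib.Cert.J3v.L

set_option autoImplicit false
set_option maxRecDepth 100000

namespace Cfsg.Agent.Ct.J3v

open Cfsg.Agent.PC

theorem e0 : Nat.beq (rng vE (nat_lit 0) (nat_lit 3)) (nat_lit 0) = true := by decide +kernel
theorem e3 : Nat.beq (rng vE (nat_lit 3) (nat_lit 3)) (nat_lit 0) = true := by decide +kernel
theorem e6 : Nat.beq (rng vE (nat_lit 6) (nat_lit 3)) (nat_lit 0) = true := by decide +kernel
theorem e9 : Nat.beq (rng vE (nat_lit 9) (nat_lit 3)) (nat_lit 0) = true := by decide +kernel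

end Cfsg.Agent.Ct.J3v
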