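import Cfsg.Agent.Lib.Cert.J3v.L

set_option autoImplicit false
set_option maxRecDepth 100000

namespace Cfsg.Agent.Ct.J3v

open Cfsg.Agent.PC

theorem e12 : Nat.beq (rng vE (nat_lit 12) (nat_lit 3)) (nat_lit 0) = true := by decide +kernel
theorem e15 : Nat.beq (rng vE (nat_lit 15) (nat_lit 3)) (nat_lit 0) = true := by decide +kernel
theorem e18 : Nat.beq (rng vE (nat_lit 18) (nat_lit 3)) (nat_lit 0) = true := by decide +kernel
theorem e21 : Nat.beq (rng vE (nat_lit 21) (nat_lit 3)) (nat_lit 0) = true := by decide +kernel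

end Cfsg.Agent.Ct.J3v
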