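import Cfsg.Agent.Lib.Cert.J3v.L

set_option autoImplicit false
set_option maxRecDepth 100000

namespace Cfsg.Agent.Ct.J3v

open Cfsg.Agent.PC

theorem e36 : Nat.beq (rng vE (nat_lit 36) (nat_lit 3)) (nat_lit 0) = true := by decide +kernel
theorem e39 : Nat.beq (rng vE (nat_lit 39) (nat_lit 3)) (nat_lit 0) = true := by decide +kernel
theorem e42 : Nat.beq (rng vE (nat_lit 42) (nat_lit 2)) (nat_lit 0) = true := by decide +kernel

end Cfsg.Agent.Ct.J3v
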