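import Cfsg.Agent.Lib.Cert.J3v.D0
import Cfsg.Agent.Lib.Cert.J3v.D1
import Cfsg.Agent.Lib.Cert.J3v.D2
import Cfsg.Agent.Lib.Cert.J3v.D3
import Cfsg.Agent.Lib.Cert.J3v.D4
import Cfsg.Agent.Lib.Cert.J3v.D5
import Cfsg.Agent.Lib.Cert.J3v.D6
import Cfsg.Agent.Lib.Cert.J3v.D7

set_option autoImplicit false
set_option maxRecDepth 100000

namespace Cfsg.Agent.Ct.J3v

open Cfsg.Agent.PC

open Cfsg.Agent.Fi Cfsg.Agent.Ct
theorem h3 : ∀ i < 262144, f3 i = 0 := by
  have h := zero_lt_zero f3
  have h := zero_lt_add (a := (nat_lit 0)) (n := (nat_lit 4096)) (b := (nat_lit 4096)) h d0 rfl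
  have h := zero_lt_add (a := (nat_lit 4096)) (n := (nat_lit 4096)) (b := (nat_lit 8192)) h d4096 rfl
  have h := zero_lt_add (a := (nat_lit 8192)) (n := (nat_lit 4096)) (b := (nat_lit 12288)) h d8192 rfl
  have h := zero_lt_add (a := (nat_lit 12288)) (n := (nat_lit 4096)) (b := (nat_lit 16384)) h d12288 rfl
  have h := zero_lt_add (a := (nat_lit 16384)) (n := (nat_lit 4096)) (b := (nat_lit 20480)) h d16384 rfl
  have h := zero_lt_add (a := (nat_lit 20480)) (n := (nat_lit 4096)) (b := (nat_lit 24576)) h d20480 rfl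
  have h := zero_lt_add (a := (nat_lit 24576)) (n := (nat_lit 4096)) (b := (nat_lit 28672)) h d24576 rfl
  have h := zero_lt_add (a := (nat_lit 28672)) (n := (nat_lit 4096)) (b := (nat_lit 32768)) h d28672 rfl
  have h := zero_lt_add (a := (nat_lit 32768)) (n := (nat_lit 4096)) (b := (nat_lit 36864)) h d32768 rfl
  have h := zero_lt_add (a := (nat_lit 36864)) (n := (nat_lit 4096)) (b := (nat_lit 40960)) h d36864 rfl
  have h := zero_lt_add (a := (nat_lit 40960)) (n := (nat_lit 4096)) (b := (nat_lit 45056)) h d40960 rfl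
  have h := zero_lt_add (a := (nat_lit 45056)) (n := (nat_lit 4096)) (b := (nat_lit 49152)) h d45056 rfl
  have h := zero_lt_add (a := (nat_lit 49152)) (n := (nat_lit 4096)) (b := (nat_lit 53248)) h d49152 rfl
  have h := zero_lt_add (a := (nat_lit 53248)) (n := (nat_lit 4096)) (b := (nat_lit 57344)) h d53248 rfl
  have h := zero_lt_add (a := (nat_lit 57344)) (n := (nat_lit 4096)) (b := (nat_lit 61440)) h d57344 rfl
  have h := zero_lt_add (a := (nat_lit 61440)) (n := (nat_lit 4096)) (b := (nat_lit 65536)) h d61440 rfl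
  have h := zero_lt_add (a := (nat_lit 65536)) (n := (nat_lit 4096)) (b := (nat_lit 69632)) h d65536 rfl
  have h := zero_lt_add (a := (nat_lit 69632)) (n := (nat_lit 4096)) (b := (nat_lit 73728)) h d69632 rfl
  have h := zero_lt_add (a := (nat_lit 73728)) (n := (nat_lit 4096)) (b := (nat_lit 77824)) h d73728 rfl
  have h := zero_lt_add (a := (nat_lit 77824)) (n := (nat_lit 4096)) (b := (nat_lit 81920)) h d77824 rfl
  have h := zero_lt_add (a := (nat_lit 81920)) (n := (nat_lit 4096)) (b := (nat_lit 86016)) h d81920 rfl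
  have h := zero_lt_add (a := (nat_lit 86016)) (n := (nat_lit 4096)) (b := (nat_lit 90112)) h d86016 rfl
  have h := zero_lt_add (a := (nat_lit 90112)) (n := (nat_lit 4096)) (b := (nat_lit 94208)) h d90112 rfl
  have h := zero_lt_add (a := (nat_lit 94208)) (n := (nat_lit 4096)) (b := (nat_lit 98304)) h d94208 rfl
  have h := zero_lt_add (a := (nat_lit 98304)) (n := (nat_lit 4096)) (b := (nat_lit 102400)) h d98304 rfl
  have h := zero_lt_add (a := (nat_lit 102400)) (n := (nat_lit 4096)) (b := (nat_lit 106496)) h d102400 rfl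
  have h := zero_lt_add (a := (nat_lit 106496)) (n := (nat_lit 4096)) (b := (nat_lit 110592)) h d106496 rfl
  have h := zero_lt_add (a := (nat_lit 110592)) (n := (nat_lit 4096)) (b := (nat_lit 114688)) h d110592 rfl
  have h := zero_lt_add (a := (nat_lit 114688)) (n := (nat_lit 4096)) (b := (nat_lit 118784)) h d114688 rfl
  have h := zero_lt_add (a := (nat_lit 118784)) (n := (nat_lit 4096)) (b := (nat_lit 122880)) h d118784 rfl
  have h := zero_lt_add (a := (nat_lit 122880)) (n := (nat_lit 4096)) (b := (nat_lit 126976)) h d122880 rfl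
  have h := zero_lt_add (a := (nat_lit 126976)) (n := (nat_lit 4096)) (b := (nat_lit 131072)) h d126976 rfl
  have h := zero_lt_add (a := (nat_lit 131072)) (n := (nat_lit 4096)) (b := (nat_lit 135168)) h d131072 rfl
  have h := zero_lt_add (a := (nat_lit 135168)) (n := (nat_lit 4096)) (b := (nat_lit 139264)) h d135168 rfl
  have h := zero_lt_add (a := (nat_lit 139264)) (n := (nat_lit 4096)) (b := (nat_lit 143360)) h d139264 rfl
  have h := zero_lt_add (a := (nat_lit 143360)) (n := (nat_lit 4096)) (b := (nat_lit 147456)) h d143360 rfl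
  have h := zero_lt_add (a := (nat_lit 147456)) (n := (nat_lit 4096)) (b := (nat_lit 151552)) h d147456 rfl
  have h := zero_lt_add (a := (nat_lit 151552)) (n := (nat_lit 4096)) (b := (nat_lit 155648)) h d151552 rfl
  have h := zero_lt_add (a := (nat_lit 155648)) (n := (nat_lit 4096)) (b := (nat_lit 159744)) h d155648 rfl
  have h := zero_lt_add (a := (nat_lit 159744)) (n := (nat_lit 4096)) (b := (nat_lit 163840)) h d159744 rfl
  have h := zero_lt_add (a := (nat_lit 163840)) (n := (nat_lit 4096)) (b := (nat_lit 167936)) h d163840 rfl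
  have h := zero_lt_add (a := (nat_lit 167936)) (n := (nat_lit 4096)) (b := (nat_lit 172032)) h d167936 rfl
  have h := zero_lt_add (a := (nat_lit 172032)) (n := (nat_lit 4096)) (b := (nat_lit 176128)) h d172032 rfl
  have h := zero_lt_add (a := (nat_lit 176128)) (n := (nat_lit 4096)) (b := (nat_lit 180224)) h d176128 rfl
  have h := zero_lt_add (a := (nat_lit 180224)) (n := (nat_lit 4096)) (b := (nat_lit 184320)) h d180224 rfl
  have h := zero_lt_add (a := (nat_lit 184320)) (n := (nat_lit 4096)) (b := (nat_lit 188416)) h d184320 rfl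
  have h := zero_lt_add (a := (nat_lit 188416)) (n := (nat_lit 4096)) (b := (nat_lit 192512)) h d188416 rfl
  have h := zero_lt_add (a := (nat_lit 192512)) (n := (nat_lit 4096)) (b := (nat_lit 196608)) h d192512 rfl
  have h := zero_lt_add (a := (nat_lit 196608)) (n := (nat_lit 4096)) (b := (nat_lit 200704)) h d196608 rfl
  have h := zero_lt_add (a := (nat_lit 200704)) (n := (nat_lit 4096)) (b := (nat_lit 204800)) h d200704 rfl
  have h := zero_lt_add (a := (nat_lit 204800)) (n := (nat_lit 4096)) (b := (nat_lit 208896)) h d204800 rfl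
  have h := zero_lt_add (a := (nat_lit 208896)) (n := (nat_lit 4096)) (b := (nat_lit 212992)) h d208896 rfl
  have h := zero_lt_add (a := (nat_lit 212992)) (n := (nat_lit 4096)) (b := (nat_lit 217088)) h d212992 rfl
  have h := zero_lt_add (a := (nat_lit 217088)) (n := (nat_lit 4096)) (b := (nat_lit 221184)) h d217088 rfl
  have h := zero_lt_add (a := (nat_lit 221184)) (n := (nat_lit 4096)) (b := (nat_lit 225280)) h d221184 rfl
  have h := zero_lt_add (a := (nat_lit 225280)) (n := (nat_lit 4096)) (b := (nat_lit 229376)) h d225280 rfl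
  have h := zero_lt_add (a := (nat_lit 229376)) (n := (nat_lit 4096)) (b := (nat_lit 233472)) h d229376 rfl
  have h := zero_lt_add (a := (nat_lit 233472)) (n := (nat_lit 4096)) (b := (nat_lit 237568)) h d233472 rfl
  have h := zero_lt_add (a := (nat_lit 237568)) (n := (nat_lit 4096)) (b := (nat_lit 241664)) h d237568 rfl
  have h := zero_lt_add (a := (nat_lit 241664)) (n := (nat_lit 4096)) (b := (nat_lit 245760)) h d241664 rfl
  have h := zero_lt_add (a := (nat_lit 245760)) (n := (nat_lit 4096)) (b := (nat_lit 249856)) h d245760 rfl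
  have h := zero_lt_add (a := (nat_lit 249856)) (n := (nat_lit 4096)) (b := (nat_lit 253952)) h d249856 rfl
  have h := zero_lt_add (a := (nat_lit 253952)) (n := (nat_lit 4096)) (b := (nat_lit 258048)) h d253952 rfl
  have h := zero_lt_add (a := (nat_lit 258048)) (n := (nat_lit 4096)) (b := (nat_lit 262144)) h d258048 rfl
  exact h
theorem c3 : cnt O 3 262144 = 69768 := by decide +kernel

end Cfsg.Agent.Ct.J3v
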