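import Cfsg.Agent.Lib.Cert.J3v.E0
import Cfsg.Agent.Lib.Cert.J3v.E1
import Cfsg.Agent.Lib.Cert.J3v.E2
import Cfsg.Agent.Lib.Cert.J3v.E3

set_option autoImplicit false
set_option maxRecDepth 100000

namespace Cfsg.Agent.Ct.J3v

open Cfsg.Agent.PC

open Cfsg.Agent.Fi Cfsg.Agent.Ct
theorem hv : ∀ i < 44, vE i = 0 := by
  have h := zero_lt_zero vE
  have h := zero_lt_add (a := (nat_lit 0)) (n := (nat_lit 3)) (b := (nat_lit 3)) h e0 rfl
  have h := zero_lt_add (a := (nat_lit 3)) (n := (nat_lit 3)) (b := (nat_lit 6)) h e3 rfl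
  have h := zero_lt_add (a := (nat_lit 6)) (n := (nat_lit 3)) (b := (nat_lit 9)) h e6 rfl
  have h := zero_lt_add (a := (nat_lit 9)) (n := (nat_lit 3)) (b := (nat_lit 12)) h e9 rfl
  have h := zero_lt_add (a := (nat_lit 12)) (n := (nat_lit 3)) (b := (nat_lit 15)) h e12 rfl
  have h := zero_lt_add (a := (nat_lit 15)) (n := (nat_lit 3)) (b := (nat_lit 18)) h e15 rfl
  have h := zero_lt_add (a := (nat_lit 18)) (n := (nat_lit 3)) (b := (nat_lit 21)) h e18 rfl
  have h := zero_lt_add (a := (nat_lit 21)) (n := (nat_lit 3)) (b := (nat_lit 24)) h e21 rfl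
  have h := zero_lt_add (a := (nat_lit 24)) (n := (nat_lit 3)) (b := (nat_lit 27)) h e24 rfl
  have h := zero_lt_add (a := (nat_lit 27)) (n := (nat_lit 3)) (b := (nat_lit 30)) h e27 rfl
  have h := zero_lt_add (a := (nat_lit 30)) (n := (nat_lit 3)) (b := (nat_lit 33)) h e30 rfl
  have h := zero_lt_add (a := (nat_lit 33)) (n := (nat_lit 3)) (b := (nat_lit 36)) h e33 rfl
  have h := zero_lt_add (a := (nat_lit 36)) (n := (nat_lit 3)) (b := (nat_lit 39)) h e36 rfl
  have h := zero_lt_add (a := (nat_lit 39)) (n := (nat_lit 3)) (b := (nat_lit 42)) h e39 rfl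
  have h := zero_lt_add (a := (nat_lit 42)) (n := (nat_lit 2)) (b := (nat_lit 44)) h e42 rfl
  exact h

end Cfsg.Agent.Ct.J3v
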