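import Cfsg.Agent.Lib.Cert.J3v.Q

set_option autoImplicit false
set_option maxRecDepth 100000
set_option maxHeartbeats 400000

namespace Cfsg.Agent.Ct.J3v

open Cfsg.Agent.PC Cfsg.Agent.Fi Cfsg.Agent.Ct Cfsg.Spor Subgroup Matrix MulAction J3

variable {F : Type} [Field F] (f : K4 →+* F)

noncomputable instance act : MulAction (GL F9 F) (F9 → F) where
  smul g v := (g : Matrix F9 F9 F) *ᵥ v
  one_smul := one_mulVec
  mul_smul _ _ _ := (mulVec_mulVec ..).symm

theorem sm (g : GL F9 F) (v : F9 → F) : g • v = (g : Matrix F9 F9 F) *ᵥ v := rfl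

def dec (n : ℕ) (z : F9) : K4 := kel (dg n (ix z))
def pt (n : ℕ) (z : F9) : F := f (dec n z)

theorem dg_lt (n k : ℕ) : dg n k < 4 := Nat.lt_succ_of_le Nat.and_le_right

theorem pt_xor (a b : ℕ) : pt f (a ^^^ b) = pt f a + pt f b := funext fun z => by
  have e : dg (a ^^^ b) (ix z) = dg a (ix z) ^^^ dg b (ix z) := by
    show (a ^^^ b) >>> _ &&& 3 = (a >>> _ &&& 3) ^^^ (b >>> _ &&& 3)
    rw [Nat.shiftRight_xor_distrib, Nat.and_xor_distrib_right]
  show f (kel _) = f (kel _) + f (kel _)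
  rw [e, ← map_add, (by decide +kernel : ∀ x < 4, ∀ y < 4, (kel (x ^^^ y) : K4) = kel x + kel y) _ (dg_lt _ _) _ (dg_lt _ _)]

theorem pt_zero : pt f 0 = 0 := funext fun z => by
  show f (dec 0 z) = 0
  rw [(by decide +kernel : ∀ z, dec 0 z = 0) z, map_zero]

theorem rep {u : GL F9 F} {c : ℕ} (h : ∀ i < 18, u • pt f (2 ^ i) = pt f (cl c i)) : Rep (pt f) 262144 u (fun n => ap c n 18) := fun n hn => by
  have : ∀ k ≤ 18, ap c n k < 2 ^ 18 ∧ u • pt f (n % 2 ^ k) = pt f (ap c n k) := fun k hk => by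
    induction k with
    | zero => exact ⟨by show 0 < _; norm_num, by rw [pow_zero, Nat.mod_one]; show _ = pt f 0; rw [pt_zero, sm, mulVec_zero]⟩
    | succ k ih =>
      obtain ⟨h1, h2⟩ := ih (by omega)
      have e : ap c n (k + 1) = ap c n k ^^^ (n >>> k &&& 1) * cl c k := rfl
      have l : cl c k < 2 ^ 18 := Nat.lt_succ_of_le Nat.and_le_right
      have t : n.testBit k = decide (n >>> k % 2 = 1) := by rw [Nat.testBit_eq_decide_div_mod_eq, Nat.shiftRight_eq_div_pow]
      rw [e, Nat.and_one_is_mod]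
      rcases Nat.mod_two_eq_zero_or_one (n >>> k) with b | b <;> rw [b] at t ⊢
      · have : n % 2 ^ (k + 1) = n % 2 ^ k := Nat.eq_of_testBit_eq fun i => by
          rw [Nat.testBit_mod_two_pow, Nat.testBit_mod_two_pow]
          rcases lt_trichotomy i k with a | rfl | a
          · simp [a, a.le, Nat.lt_succ_iff]
          · simp [t]
          · simp [a.not_gt, a.not_ge, Nat.lt_succ_iff]
        rw [zero_mul, Nat.xor_zero, this]
        exact ⟨h1, h2⟩
      · have : n % 2 ^ (k + 1) = n % 2 ^ k ^^^ 2 ^ k := Nat.eq_of_testBit_eq fun i => by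
          rw [Nat.testBit_xor, Nat.testBit_mod_two_pow, Nat.testBit_mod_two_pow, Nat.testBit_two_pow]
          rcases lt_trichotomy i k with a | rfl | a
          · simp [a, a.le, a.ne', Nat.lt_succ_iff]
          · simp [t]
          · simp [a.not_gt, a.not_ge, a.ne, Nat.lt_succ_iff]
        rw [one_mul, this, pt_xor, pt_xor, ← h2, ← h k (by omega)]
        exact ⟨Nat.xor_lt_two_pow h1 l, mulVec_add ..⟩
  have := this 18 le_rfl
  rwa [Nat.mod_eq_of_lt (show n < 2 ^ 18 from hn)] at this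

theorem inj : Inj (pt f) 262144 := fun a ha b hb e => by
  have l : a ^^^ b < 2 ^ 18 := Nat.xor_lt_two_pow ha hb
  have z : pt f (a ^^^ b) = 0 := by rw [pt_xor, e, ← pt_xor, Nat.xor_self, pt_zero]
  refine Nat.eq_of_xor_eq_zero ?_
  generalize a ^^^ b = n at l z
  have d : ∀ k < 9, n / 2 ^ (2 * k) % 4 = 0 := fun k hk => by
    obtain ⟨w, rfl⟩ := (by decide +kernel : ∀ k < 9, ∃ w : F9, k = ix w) k hk
    have := (by decide +kernel : ∀ x < 4, (kel x : K4) = 0 → x = 0) _ (dg_lt n (ix w)) (f.injective ((congrFun z w).trans (map_zero f).symm))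
    rw [← Nat.shiftRight_eq_div_pow, ← show _ = _ % 4 from Nat.and_two_pow_sub_one_eq_mod _ 2]
    exact this
  have := d 0 (by decide); have := d 1 (by decide); have := d 2 (by decide); have := d 3 (by decide); have := d 4 (by decide)
  have := d 5 (by decide); have := d 6 (by decide); have := d 7 (by decide); have := d 8 (by decide)
  norm_num at *
  omega

theorem surj [Fintype F] (hF : Fintype.card F = 4) (v : F9 → F) : ∃ n < 262144, pt f n = v :=
  (Set.eq_of_subset_of_ncard_le (Set.subset_univ (pt f '' Set.Iio 262144)) (by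
    rw [(inj f).ncard_Iio, Set.ncard_univ, Nat.card_fun, Nat.card_eq_fintype_card, hF, Nat.card_eq_fintype_card]; decide)).ge trivial

theorem par {n : ℕ} (h : ∑ z, pt f n z ^ 3 = 0) : wt n % 2 = 0 := by
  have : CharP K4 2 := (CharP.charP_iff_prime_eq_zero Nat.prime_two).2 (by decide +kernel)
  have e : ∀ z, pt f n z ^ 3 = f (sg n (ix z) : ℕ) := fun z => by
    rw [pt, ← map_pow]
    exact congrArg f ((by decide +kernel : ∀ x < 4, (kel x : K4) ^ 3 = ((1 - (1 - x) : ℕ) : K4)) _ (dg_lt _ _))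
  have s : ∑ z : F9, sg n (ix z) = wt n := by
    show ∑ z : Fin 3 × Fin 3, sg n (ix z) = _
    rw [Fintype.sum_prod_type, Fin.sum_univ_three, Fin.sum_univ_three, Fin.sum_univ_three, Fin.sum_univ_three]
    rfl
  simp only [e] at h
  rw [← map_sum, ← Nat.cast_sum, s, map_eq_zero, CharP.cast_eq_zero_iff K4 2] at h
  omega

theorem lines {S : Set (F9 → F)} (h0 : 0 ∉ S) (h : ∀ c : Fˣ, ∀ v ∈ S, c • v ∈ S) :
    S.ncard = ((fun v => F ∙ v) '' S).ncard * Nat.card Fˣ := by
  have : ∀ L : (fun v => F ∙ v) '' S, ∃ v ∈ S, F ∙ v = L := fun L => L.2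
  choose r h1 h2 using this
  rw [← Nat.card_coe_set_eq, ← Nat.card_coe_set_eq, ← Nat.card_prod]
  refine (Nat.card_eq_of_bijective (fun a : _ × Fˣ => (⟨a.2 • r a.1, h _ _ (h1 _)⟩ : S)) ⟨?_, fun v => ?_⟩).symm
  · rintro ⟨L, c⟩ ⟨L', c'⟩ e
    have e : c • r L = c' • r L' := congrArg Subtype.val e
    obtain rfl : L = L' := Subtype.ext (by
      rw [← h2, ← h2]
      exact Submodule.span_singleton_eq_span_singleton.mpr ⟨c'⁻¹ * c, by rw [mul_smul, e, inv_smul_smul]⟩)
    exact Prod.ext rfl (Units.ext (smul_left_injective F (fun t => h0 (t ▸ h1 L)) e))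
  · obtain ⟨c, e⟩ := Submodule.span_singleton_eq_span_singleton.mp (h2 ⟨_, v.1, v.2, rfl⟩)
    exact ⟨⟨_, c⟩, Subtype.ext e⟩

noncomputable def vE (j : ℕ) : ℕ := Nat.add (lettE (nat_lit 2) (V j))
  (lin (fun i => Nat.xor (trF Q (V j) (Nat.pow (nat_lit 2) i)) (cl (TN.get Cg j) i)) (nat_lit 0) (nat_lit 18))

end Cfsg.Agent.Ct.J3v
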