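import Cfsg.Agent.Lib.Cert.J3v.L

set_option autoImplicit false
set_option maxRecDepth 100000
set_option maxHeartbeats 400000

namespace Cfsg.Agent.Ct.J3v

open Cfsg.Agent.PC Cfsg.Agent.Fi Cfsg.Agent.Ct Cfsg.Spor Subgroup Matrix MulAction J3

variable {F : Type} [Field F] (f : K4 →+* F)

noncomputable def g (j : ℕ) : GL F9 F := uL f M nv (7 + j)
noncomputable def q (j : ℕ) : GL F9 F := ev (g f) (W j)

theorem gM {j : ℕ} (hj : j < 43) : (g f j : Matrix F9 F9 F) = (M (7 + j)).map f := lm.uL f (lin_zero hu j hj)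

theorem hc : ∀ j < 43, ∀ i < 18, M (7 + j) *ᵥ dec (2 ^ i) = dec (cl (TN.get Cg j) i) := by decide +kernel

theorem gb {j : ℕ} (hj : j < 43) (i : ℕ) (hi : i < 18) : g f j • pt f (2 ^ i) = pt f (cl (TN.get Cg j) i) := funext fun z => by
  rw [sm, gM f hj]
  exact (RingHom.map_mulVec f _ (dec (2 ^ i)) z).symm.trans (congrArg f (congrFun (hc j hj i hi) z))

theorem rg : Reps (pt f) 262144 (g f) T 43 := fun _ hj => rep f (gb f hj)

theorem p18 {i : ℕ} (hi : i < 18) : 2 ^ i < 262144 := Nat.pow_lt_pow_right (by decide) hi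

theorem rq : Reps (pt f) 262144 (q f) Q 2 := fun j hj => rep f fun i hi => by
  have := (by decide +kernel : ∀ j < 2, (∀ a ∈ W j, a < 43) ∧ ∀ i < 18, trF T (W j) (2 ^ i) = cl (TN.get Cq j) i) j hj
  rw [← this.2 i hi, trF_eq]
  exact ((rg f).ev this.1 _ (p18 hi)).2

theorem vb (hv : ∀ j < 44, vE j = 0) {j : ℕ} (hj : j < 44) :
    ev (q f) (V j) ∈ gen (q f) 2 ∧ Rep (pt f) 262144 (ev (q f) (V j)) (T j) := by
  obtain ⟨a, b⟩ := add_eq_zero' (hv j hj)
  refine ⟨ev_mem_gen _ (lettE_zero a), rep f fun i hi => ?_⟩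
  rw [← xor_eq_zero' (lin_zero b i hi), trF_eq]
  exact ((rq f).ev (lettE_zero a) _ (p18 hi)).2

theorem genq [Fintype F] (hF : Fintype.card F = 4) (hv : ∀ j < 44, vE j = 0) : gen (q f) 2 = threeJ3 F (f (kel 2)) := by
  refine le_antisymm ((gen_words (a := 43) (by decide +kernel)).trans (gen_le fun j hj =>
    subset_closure (show _ ∈ j3Gens _ _ from gM f hj ▸ gmem f j hj))) ((closure_le _).mpr fun u hu => ?_)
  obtain ⟨j, hj, e⟩ := memg f hu
  obtain ⟨a, b⟩ := vb f hv (j := j) (by omega)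
  have : u = ev (q f) (V j) := Units.ext (Matrix.mulVec_injective.eq_iff.mp (funext fun v => by
    obtain ⟨n, hn, rfl⟩ := surj f hF v
    rw [e, ← gM f hj]
    exact (rg f j hj n hn).2.trans (b n hn).2.symm))
  exact this ▸ a

theorem scl [Fintype F] (hF : Fintype.card F = 4) (hv : ∀ j < 44, vE j = 0) (c : Fˣ) : ∃ u ∈ gen (q f) 2, ∀ v : F9 → F, u • v = c • v := by
  obtain ⟨a, b⟩ := vb f hv (j := 43) (by omega)
  have w : f (kel 2) ≠ 0 := (map_ne_zero f).mpr (by decide +kernel)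
  let s : GL F9 F := Units.map (scalar F9).toMonoidHom (Units.mk0 _ w)
  have hs : ∀ v : F9 → F, s • v = f (kel 2) • v := fun v => by
    show scalar F9 (f (kel 2)) *ᵥ v = _
    ext z; simp [mulVec_diagonal]
  have r : Rep (pt f) 262144 s (T 43) := rep f fun i hi => funext fun z => by
    rw [hs]
    exact (map_mul f _ _).symm.trans (congrArg f ((by decide +kernel : ∀ i < 18, ∀ z, kel 2 * dec (2 ^ i) z = dec (cl (TN.get Cg 43) i) z) i hi z))
  have k : ∀ v : F9 → F, ev (q f) (V 43) • v = f (kel 2) • v := fun v => by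
    obtain ⟨n, hn, rfl⟩ := surj f hF v
    exact (b n hn).2.trans ((r n hn).2.symm.trans (hs _))
  obtain ⟨x, hx⟩ := (Fintype.bijective_iff_injective_and_card f).mpr ⟨f.injective, hF.symm⟩ |>.2 c
  rcases (by decide +kernel : ∀ x : K4, x = 0 ∨ x = 1 ∨ x = kel 2 ∨ x = kel 2 * kel 2) x with rfl | rfl | rfl | rfl
  · exact absurd (hx.symm.trans (map_zero f)) c.ne_zero
  · exact ⟨1, one_mem _, fun v => by rw [one_smul, Units.smul_def, ← hx, map_one, one_smul]⟩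
  · exact ⟨_, a, fun v => by rw [k, Units.smul_def, ← hx]⟩
  · exact ⟨_, mul_mem a a, fun v => by rw [mul_smul, k, k, Units.smul_def, ← hx, map_mul, mul_smul]⟩

theorem main [Fintype F] (hF : Fintype.card F = 4) (hv : ∀ j < 44, vE j = 0) (h3 : ∀ i < 262144, f3 i = 0) (c3 : cnt O 3 262144 = 69768) :
    {L : Submodule F (F9 → F) | ∃ g ∈ threeJ3 F (f (kel 2)), L = F ∙ ((g : Matrix F9 F9 F) *ᵥ (Pi.single (0 : F9) (1 : F) : F9 → F))}.ncard = 23256 ∧
    ∀ v w : F9 → F, v ≠ 0 → w ≠ 0 → ∑ z, (v z) ^ 3 = 0 → ∑ z, (w z) ^ 3 = 0 →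
      ∃ g ∈ threeJ3 F (f (kel 2)), ∃ c : F, c ≠ 0 ∧ (g : Matrix F9 F9 F) *ᵥ v = c • w := by
  have o : ∀ c < 262144, O c ≠ 0 → orbit (gen (q f) 2) (pt f c) = pt f '' {d | d < 262144 ∧ O d = O c} := fun c hc h0 =>
    orbit_eq_class (rq f) (inj f) (fun c hc => (add_eq_zero' (add_eq_zero' (add_eq_zero' (h3 c hc)).1).1).1)
      (fun c hc => (add_eq_zero' (add_eq_zero' (add_eq_zero' (h3 c hc)).1).1).2) hc h0
  rw [← genq f hF hv]
  constructor
  · have e : pt f 1 = Pi.single 0 1 := funext fun z => by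
      rw [pt, (by decide +kernel : ∀ z, dec 1 z = if z = 0 then 1 else 0) z, Pi.single_apply, apply_ite f, map_one, map_zero]
    have o1 : O 1 = 3 := by decide +kernel
    have h := lines (S := orbit (gen (q f) 2) (pt f 1)) (fun ⟨a, ha⟩ => by
      have : pt f 1 = pt f 0 := by rw [pt_zero, ← inv_smul_smul a (pt f 1), show a • pt f 1 = 0 from ha]; exact mulVec_zero _
      exact absurd (inj f 1 (by decide) 0 (by decide) this) (by decide)) fun c v hv' => by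
      obtain ⟨u, hu, k⟩ := scl f hF hv c
      obtain ⟨a, rfl⟩ := hv'
      exact ⟨⟨u, hu⟩ * a, (mul_smul ..).trans (k _)⟩
    rw [Nat.card_units, Nat.card_eq_fintype_card, hF, show _ '' orbit (gen (q f) 2) (pt f 1) =
      {L : Submodule F (F9 → F) | ∃ g ∈ gen (q f) 2, L = F ∙ ((g : Matrix F9 F9 F) *ᵥ (Pi.single (0 : F9) (1 : F) : F9 → F))} from
      Set.ext fun L => ⟨fun ⟨_, ⟨a, rfl⟩, t⟩ => ⟨a.1, a.2, e ▸ t.symm⟩, fun ⟨a, ha, t⟩ => ⟨_, ⟨⟨a, ha⟩, rfl⟩, e ▸ t.symm⟩⟩,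
      o 1 (by decide) (by rw [o1]; decide), (inj f).ncard_class, o1, c3] at h
    omega
  · intro v w hv0 hw0 h1 h2
    have k : ∀ n < 262144, pt f n ≠ 0 → ∑ z, pt f n z ^ 3 = 0 → O n = 2 := fun n hn a b => by
      have t : (1 - wt n % 2) * n * (O n ^^^ 2) = 0 := (add_eq_zero' (h3 n hn)).2
      rw [par f b, Nat.sub_zero, one_mul] at t
      exact Nat.eq_of_xor_eq_zero ((mul_eq_zero.mp t).resolve_left fun e => a (e ▸ pt_zero f))
    obtain ⟨n, hn, rfl⟩ := surj f hF v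
    obtain ⟨m, hm, rfl⟩ := surj f hF w
    obtain ⟨a, ha⟩ := (o n hn (by rw [k n hn hv0 h1]; decide)).ge ⟨m, ⟨hm, (k m hm hw0 h2).trans (k n hn hv0 h1).symm⟩, rfl⟩
    exact ⟨a.1, a.2, 1, one_ne_zero, ha.trans (one_smul _ _).symm⟩

end Cfsg.Agent.Ct.J3v
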